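import Groth.Agent.CurveOmega.Bridge
import Groth.Agent.CurveOmega.CliffordCurve
import Groth.Agent.CurveRR.Tensor
import Groth.Agent.CurveRR.Easy2
import Mathlib

/-!
Invertible modules and divisors on smooth proper geometrically irreducible curves over perfect fields.
-/

set_option autoImplicit false
set_option backward.isDefEq.respectTransparency false
set_option linter.style.haveILetI false
set_option linter.unusedSectionVars false

universe u

open CategoryTheory CategoryTheory.Limits AlgebraicGeometry TopologicalSpace Opposite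
open Groth.Agent.WeakAssLib (mgerm mgerm_res mgerm_smul)
open Groth.Agent.RefStalk (toGen msp msp_germ msp_smul)
open Groth.Agent.RefDiv (St dv Lat HasDiv idl FinSupp)
open TMul (IsGen)
open WithZero (exp)

noncomputable section

namespace Groth.Agent.CurvePic

open Groth.Agent.CurveOmega (normal instNoeth coheight_eq_one isClosed_of_coheight finite_notMem pt isClosed_pt coheight_pt
  ord_pt exists_pt_eq dvp dvp_eq_ord divOf mgerm_cst exists_sec topη mem_top')

attribute [local instance] CurveRR.secMod CurveOmega.kAlg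

variable {k : Type u} [Field k] [PerfectField k] {X : Scheme.{u}} [X.Over (Spec (CommRingCat.of k))] [IsIntegral X]
  [IsLocallyNoetherian X] [GeometricallyIrreducible (X ↘ Spec (CommRingCat.of k))]

variable (hC : Curve.IsSmoothProperCurve k X (X ↘ Spec (CommRingCat.of k)))
include hC

theorem funField : FunFld.IsFunctionField k X.functionField := CurveFF.isFunctionField hC

theorem finite_support_dvp {L : X.Modules} (hL : PicF.IsInvertible L) {s : St L} (hs : s ≠ 0) :
    (Function.support (dvp hC L s)).Finite := by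
  haveI := hC.1
  have hlat := RefDiv.lat_of_isInvertible hL
  obtain ⟨W, hW, e, he⟩ := hlat.exists_isGen_generic
  obtain ⟨φ, hφs⟩ := (RefDiv.bijective_germ_of_isGen he hW).2 s
  have hφ : φ ≠ 0 := fun h0 => hs (hφs.symm.trans ((congrArg (· • mgerm L hW e) h0).trans (zero_smul _ _)))
  have hinj : Function.Injective (pt hC) := Subtype.val_injective.comp (CurveFF.pointEquiv hC).symm.injective
  refine (((finite_notMem hC hW).preimage hinj.injOn).union
    (FunFld.finite_support (funField hC) φ)).subset fun P hP => ?_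
  by_cases hPW : pt hC P ∈ W
  · refine Or.inr ?_
    rw [Function.mem_support] at hP ⊢
    rwa [dvp_eq_ord hC hlat hW he hφ hφs hPW] at hP
  · exact Or.inl hPW

theorem divOf_apply {L : X.Modules} (hL : PicF.IsInvertible L) {s : St L} (hs : s ≠ 0)
    (P : FunFld.Place k X.functionField) : divOf hC L s P = dvp hC L s P := by
  rw [divOf, dif_pos (finite_support_dvp hC hL hs)]; rfl

/-- `H⁰(L)` is the Riemann-Roch space of the divisor of any rational section. -/
theorem h_eq_ell {L : X.Modules} (hL : PicF.IsInvertible L) {s : St L} (hs : s ≠ 0) :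
    CurveRR.h k L 0 = FunFld.ell (divOf hC L s) := by
  classical
  haveI := instNoeth hC
  have hlat := RefDiv.lat_of_isInvertible hL
  choose c hc using fun t : Γ(L, (⊤ : X.Opens)) =>
    hlat.exists_smul hs (mgerm L (topη X) t)
  have hmem : ∀ t, c t ∈ FunFld.L (divOf hC L s) := fun t P => by
    rcases eq_or_ne (c t) 0 with h0 | h0
    · rw [h0, map_zero]; exact zero_le
    obtain ⟨m, hm⟩ := hlat.exists_span (normal hC) (coheight_pt hC P)
    obtain ⟨φ, hφ, hφs⟩ := hlat.exists_coeff hm hs
    obtain ⟨r, hr⟩ := RefDiv.exists_smul_of_span hm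
      (mgerm L (mem_top' (pt hC P)) t)
    have e : (c t * φ) • msp L (toGen (pt hC P)) m = RefDiv.sp (pt hC P) r • msp L (toGen (pt hC P)) m := by
      rw [mul_smul, hφs, hc]
      refine Eq.trans ?_ (msp_smul L (toGen (pt hC P)) r m)
      rw [hr]
      exact (msp_germ L (toGen (pt hC P)) _ t).symm
    have hnn : 0 ≤ Scheme.ord (c t * φ) (pt hC P) := by
      rw [RefDiv.ord_nonneg_iff (normal hC) (coheight_pt hC P) (mul_ne_zero h0 hφ)]
      exact ⟨r, (RefDiv.smul_cancel (hlat.msp_ne_zero hm) e).symm⟩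
    rw [Scheme.ord_mul h0 hφ, ord_pt hC P h0] at hnn
    rw [FunFld.val_eq_exp P h0, divOf_apply hC hL hs, WithZero.exp_le_exp, dvp, dv,
      hlat.secOrdAt_mk (coheight_pt hC P) hm hφ hφs]
    omega
  let F : Γ(L, (⊤ : X.Opens)) →ₗ[k] FunFld.L (divOf hC L s) :=
    { toFun := fun t => ⟨c t, hmem t⟩
      map_add' := fun t t' => Subtype.ext (RefDiv.smul_cancel hs (by
        show c (t + t') • s = (c t + c t') • s
        rw [hc, map_add, add_smul, hc, hc]))
      map_smul' := fun a t => Subtype.ext (RefDiv.smul_cancel hs (by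
        show c (a • t) • s = (a • c t) • s
        rw [hc, mgerm_cst, Algebra.smul_def, mul_smul, hc])) }
  have hF : Function.Bijective F := by
    refine ⟨fun t t' e => ?_, fun y => ?_⟩
    · have e' : mgerm L (topη X) (t - t') = 0 := by
        rw [map_sub, ← hc t, ← hc t', show c t = c t' from congrArg Subtype.val e, sub_self]
      exact sub_eq_zero.1 (CurveRR.eq_zero_of_germ_generic hL _ _ e')
    · rcases eq_or_ne y.1 0 with h0 | h0
      · exact ⟨0, Subtype.ext (RefDiv.smul_cancel hs (by
          show c 0 • s = y.1 • s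
          rw [hc, map_zero, h0]; exact (zero_smul _ s).symm))⟩
      obtain ⟨t, ht⟩ := exists_sec hL (y.1 • s) fun x hx => by
        have hcl := CurveFF.isClosed_of_ne_generic hC hx
        obtain ⟨P, rfl⟩ := exists_pt_eq hC hcl
        obtain ⟨m, hm⟩ := hlat.exists_span (normal hC) (coheight_pt hC P)
        obtain ⟨φ, hφ, hφs⟩ := hlat.exists_coeff hm hs
        have hy := y.2 P
        rw [FunFld.val_eq_exp P h0, divOf_apply hC hL hs, WithZero.exp_le_exp, dvp, dv,
          hlat.secOrdAt_mk (coheight_pt hC P) hm hφ hφs] at hy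
        obtain ⟨r, hr⟩ := (RefDiv.ord_nonneg_iff (normal hC) (coheight_pt hC P) (mul_ne_zero h0 hφ)).1 (by
          rw [Scheme.ord_mul h0 hφ, ord_pt hC P h0]; omega)
        refine ⟨r • m, ?_⟩
        rw [msp_smul, show RefDiv.sp (pt hC P) r = y.1 * φ from hr, mul_smul, hφs]
      exact ⟨t, Subtype.ext (RefDiv.smul_cancel hs ((hc t).trans ht))⟩
  rw [← CurveRR.finrank_sec]
  exact (LinearEquiv.ofBijective F hF).finrank_eq

theorem exists_divOf_tensor {L M : X.Modules} (hL : PicF.IsInvertible L)
    (hM : PicF.IsInvertible M) {s : St L} (hs : s ≠ 0) {t : St M} (ht : t ≠ 0) :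
    ∃ w : St (CohB1.tensorMod L M), w ≠ 0 ∧
      divOf hC (CohB1.tensorMod L M) w = divOf hC L s + divOf hC M t := by
  haveI := instNoeth hC
  have lL := RefDiv.lat_of_isInvertible hL
  have lM := RefDiv.lat_of_isInvertible hM
  have hT := TMul.isInvertible_tensorMod hL hM
  have rT := RefDiv.isRef1_of_isInvertible hT
  haveI : IsIso (RefHull.bidualMap (CohB1.tensorMod L M)) := rT.2.1
  obtain ⟨w, hw, hwD⟩ := RefDiv.hasDiv_tensor (normal hC) lL lM hs ht
  obtain ⟨w', hw', hwD'⟩ := RefDiv.hasDiv_iso (normal hC) (RefDiv.lat_tensor lL lM)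
    (RefDiv.lat_of_isInvertible hT) (asIso (RefHull.bidualMap (CohB1.tensorMod L M))).symm
    (D := fun x => dv L x s + dv M x t) ⟨w, hw, hwD⟩
  refine ⟨w', hw', Finsupp.ext fun P => ?_⟩
  rw [Finsupp.add_apply, divOf_apply hC hT hw', divOf_apply hC hL hs, divOf_apply hC hM ht]
  exact hwD' _ (coheight_pt hC P)

theorem exists_divOf_structure :
    ∃ s : St (Coh.structureModule X), s ≠ 0 ∧ divOf hC (Coh.structureModule X) s = 0 := by
  haveI := instNoeth hC
  obtain ⟨s, hs, hsD⟩ := RefDiv.hasDiv_structureModule (X := X) (normal hC)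
  refine ⟨s, hs, Finsupp.ext fun P => ?_⟩
  rw [divOf_apply hC TMul.isInvertible_structureModule hs]
  exact hsD _ (coheight_pt hC P)

theorem exists_divOf_pow {A : X.Modules} (hA : PicF.IsInvertible A) {a : St A} (ha : a ≠ 0)
    (n : ℕ) : ∃ w : St (CohB1.tensorPow A n), w ≠ 0 ∧ divOf hC (CohB1.tensorPow A n) w = n • divOf hC A a := by
  induction n with
  | zero => rw [zero_smul]; exact exists_divOf_structure hC
  | succ m ih =>
    obtain ⟨w, hw, hwD⟩ := ih
    obtain ⟨w', hw', hwD'⟩ := exists_divOf_tensor hC (TMul.isInvertible_tensorPow hA m) hA hw ha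
    exact ⟨w', hw', by rw [succ_nsmul, ← hwD]; exact hwD'⟩


/-- A rank one lattice on a smooth curve is invertible. -/
theorem isInvertible_of_lat {M : X.Modules} (h : Lat M) : PicF.IsInvertible M := by
  refine InvGen.isInvertible fun x => ?_
  by_cases hx : x = genericPoint X
  · obtain ⟨W, hW, e, he⟩ := h.exists_isGen_generic
    exact ⟨W, e, hx ▸ hW, he⟩
  · obtain ⟨m, hm⟩ := h.exists_span (normal hC) (coheight_eq_one hC (CurveFF.isClosed_of_ne_generic hC hx))
    obtain ⟨W, hxW, e, -, he⟩ := h.exists_isGen hm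
    exact ⟨W, e, hxW, he⟩

/-- Effective divisors are divisors of invertible modules. -/
theorem exists_inv_of_effective (D : FunFld.Divisor k X.functionField) (hD : 0 ≤ D) :
    ∃ (L : X.Modules) (s : St L), PicF.IsInvertible L ∧ s ≠ 0 ∧ divOf hC L s = D := by
  classical
  let E : X → ℕ := fun x => if hx : IsClosed ({x} : Set X) then (D (CurveFF.pointEquiv hC ⟨x, hx⟩)).toNat else 0
  have hEpt : ∀ P, E (pt hC P) = (D P).toNat := fun P => by
    simp only [E, dif_pos (isClosed_pt hC P)]
    rw [show CurveFF.pointEquiv hC ⟨pt hC P, isClosed_pt hC P⟩ = P from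
      (CurveFF.pointEquiv hC).apply_symm_apply P]
  have hfin : FinSupp E := fun U _ => (D.support.finite_toSet.image (pt hC)).subset fun x hx => by
    obtain ⟨-, -, hx⟩ := hx
    by_cases hcl : IsClosed ({x} : Set X)
    · refine ⟨CurveFF.pointEquiv hC ⟨x, hcl⟩, ?_, congrArg Subtype.val ((CurveFF.pointEquiv hC).symm_apply_apply _)⟩
      rw [Finset.mem_coe, Finsupp.mem_support_iff]
      intro h0
      simp [E, hcl, h0] at hx
    · simp [E, hcl] at hx
  obtain ⟨s, hs, hsD⟩ := RefDiv.hasDiv_dual (normal hC) (RefDiv.lat_idl hfin) (RefDiv.hasDiv_idl (normal hC) hfin)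
  have hinv := isInvertible_of_lat hC (RefDiv.lat_dual (RefDiv.lat_idl hfin))
  refine ⟨_, s, hinv, hs, Finsupp.ext fun P => ?_⟩
  rw [divOf_apply hC hinv hs]
  show dv _ (pt hC P) s = _
  rw [hsD _ (coheight_pt hC P)]
  beta_reduce
  rw [hEpt P]
  have := hD P
  simp only [Finsupp.coe_zero, Pi.zero_apply] at this
  omega

/-- Negatives of effective divisors are divisors of invertible modules. -/
theorem exists_inv_neg (D : FunFld.Divisor k X.functionField) (hD : 0 ≤ D) :
    ∃ (L : X.Modules) (s : St L), PicF.IsInvertible L ∧ s ≠ 0 ∧ divOf hC L s = -D := by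
  classical
  let E : X → ℕ := fun x => if hx : IsClosed ({x} : Set X) then (D (CurveFF.pointEquiv hC ⟨x, hx⟩)).toNat else 0
  have hEpt : ∀ P, E (pt hC P) = (D P).toNat := fun P => by
    simp only [E, dif_pos (isClosed_pt hC P)]
    rw [show CurveFF.pointEquiv hC ⟨pt hC P, isClosed_pt hC P⟩ = P from
      (CurveFF.pointEquiv hC).apply_symm_apply P]
  have hfin : FinSupp E := fun U _ => (D.support.finite_toSet.image (pt hC)).subset fun x hx => by
    obtain ⟨-, -, hx⟩ := hx
    by_cases hcl : IsClosed ({x} : Set X)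
    · refine ⟨CurveFF.pointEquiv hC ⟨x, hcl⟩, ?_, congrArg Subtype.val ((CurveFF.pointEquiv hC).symm_apply_apply _)⟩
      rw [Finset.mem_coe, Finsupp.mem_support_iff]
      intro h0
      simp [E, hcl, h0] at hx
    · simp [E, hcl] at hx
  obtain ⟨s, hs, hsD⟩ := RefDiv.hasDiv_idl (normal hC) hfin
  have hinv := isInvertible_of_lat hC (RefDiv.lat_idl hfin)
  refine ⟨_, s, hinv, hs, Finsupp.ext fun P => ?_⟩
  rw [divOf_apply hC hinv hs]
  show dv _ (pt hC P) s = _
  rw [hsD _ (coheight_pt hC P)]
  beta_reduce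
  rw [hEpt P]
  have := hD P
  simp only [Finsupp.coe_zero, Pi.zero_apply, Finsupp.coe_neg, Pi.neg_apply] at this ⊢
  omega

/-- Degrees and genera of the scheme and of the function field agree, and the constants are the ground field. -/
theorem deg_genus : Curv2.genus k X = FunFld.genus k X.functionField ∧
    (∀ (L : X.Modules), PicF.IsInvertible L → ∀ s : St L, s ≠ 0 →
      (divOf hC L s).deg = Curv2.deg k X L 1) ∧
    CurveRR.h k (Coh.structureModule X) 0 = 1 := by
  haveI := hC.1
  haveI := instNoeth hC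
  have hK := funField hC
  have hdim : topologicalKrullDim X ≤ 1 := hC.2.2.2.le
  obtain ⟨o, ho, hoD⟩ := exists_divOf_structure hC
  have h0 : CurveRR.h k (Coh.structureModule X) 0 = 1 := by
    rw [h_eq_ell hC TMul.isInvertible_structureModule ho, hoD, FunFld.ell_zero hK]
  obtain ⟨P⟩ := FunFld.exists_place_any hK
  obtain ⟨A, a, hA, ha, haD⟩ := exists_inv_of_effective hC (Finsupp.single P 1) (Finsupp.single_nonneg.2 zero_le_one)
  have hd1 : 1 ≤ (divOf hC A a).deg := by
    rw [haD, FunFld.deg_single, one_mul]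
    exact_mod_cast FunFld.deg_pos hK P
  set gF : ℤ := (FunFld.genus k X.functionField : ℤ) with hgF
  set g : ℤ := (Curv2.genus k X : ℤ) with hg
  have hApos : 1 ≤ Curv2.deg k X A 1 := by
    obtain ⟨w, hw, hwD⟩ := exists_divOf_pow hC hA ha (2 * FunFld.genus k X.functionField + 2)
    have hT := TMul.isInvertible_tensorPow hA (2 * FunFld.genus k X.functionField + 2)
    have hbig : 2 ≤ CurveRR.h k (CohB1.tensorPow A (2 * FunFld.genus k X.functionField + 2)) 0 := by
      have h2 := FunFld.ell_eq_of_deg_ge hK (D := divOf hC _ w) (by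
        rw [hwD, FunFld.deg_nsmul]; push_cast; nlinarith)
      rw [hwD, FunFld.deg_nsmul] at h2
      rw [h_eq_ell hC hT hw, hwD]
      push_cast at h2
      nlinarith
    obtain ⟨σ, hσ⟩ := CurveRR.exists_section (k := k) (L := CohB1.tensorPow A
      (2 * FunFld.genus k X.functionField + 2)) (by omega)
    by_contra hlt
    obtain ⟨e⟩ := CurveRR.nonempty_iso_of_section (k := k) hdim hT σ hσ (by
      rw [CurveRR.deg_tensorPow hdim hA]; push_cast; nlinarith)
    have heq : CurveRR.h k (CohB1.tensorPow A (2 * FunFld.genus k X.functionField + 2)) 0 =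
        CurveRR.h k (Coh.structureModule X) 0 := (CohFinite.hhEquiv k e 0).finrank_eq
    omega
  have key : ∀ (L : X.Modules), PicF.IsInvertible L → ∀ s : St L, s ≠ 0 → ∃ N : ℕ, ∀ n : ℕ, N ≤ n →
      Curv2.deg k X L 1 + n * Curv2.deg k X A 1 - g = (divOf hC L s).deg + n * (divOf hC A a).deg - gF := by
    intro L hL s hs
    refine ⟨(2 * g - 1 - Curv2.deg k X L 1).toNat + (2 * gF - 1 - (divOf hC L s).deg).toNat, fun n hn => ?_⟩
    obtain ⟨w, hw, hwD⟩ := exists_divOf_pow hC hA ha n
    have hAn := TMul.isInvertible_tensorPow hA n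
    have hT := TMul.isInvertible_tensorMod hL hAn
    obtain ⟨v, hv, hvD⟩ := exists_divOf_tensor hC hL hAn hs hw
    have hd : Curv2.deg k X (CohB1.tensorMod L (CohB1.tensorPow A n)) 1 =
        Curv2.deg k X L 1 + n * Curv2.deg k X A 1 := by
      rw [CurveRR.deg_tensor_inv hdim hL hAn, CurveRR.deg_tensorPow hdim hA]
    have hD : (divOf hC _ v).deg = (divOf hC L s).deg + n * (divOf hC A a).deg := by
      rw [hvD, FunFld.deg_add, hwD, FunFld.deg_nsmul]
    have n1 : (n : ℤ) ≤ n * Curv2.deg k X A 1 := le_mul_of_one_le_right (Int.natCast_nonneg n) hApos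
    have n2 : (n : ℤ) ≤ n * (divOf hC A a).deg := le_mul_of_one_le_right (Int.natCast_nonneg n) hd1
    have h1 := CurveRR.h0_eq_of_deg (k := k) hdim h0 hT (by rw [hd]; omega)
    have h2 := FunFld.ell_eq_of_deg_ge hK (D := divOf hC _ v) (by rw [hD]; omega)
    rw [h_eq_ell hC hT hv, h2, hD, hd] at h1
    linarith
  obtain ⟨N₀, hN₀⟩ := key _ TMul.isInvertible_structureModule o ho
  have e1 := hN₀ N₀ le_rfl
  have e2 := hN₀ (N₀ + 1) (by omega)
  rw [hoD, FunFld.deg_zero, CurveRR.deg_structure] at e1 e2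
  push_cast at e2
  have hAA : Curv2.deg k X A 1 = (divOf hC A a).deg := by linarith
  have hgg : g = gF := by rw [hAA] at e1; linarith
  refine ⟨by omega, fun L hL s hs => ?_, h0⟩
  obtain ⟨N, hN⟩ := key L hL s hs
  have e3 := hN N le_rfl
  rw [hAA, hgg] at e3
  linarith

end Groth.Agent.CurvePic
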