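import Groth.Agent.CurvePic.Bridge
import Groth.Agent.FunFld.ClassNum
import Groth.Agent.FunFld.Schmidt
import Groth.Prelude.Def_PicGrp
import Mathlib

/-!
Isomorphism classes of invertible modules of given degree on a curve over a finite field.
-/

set_option autoImplicit false
set_option backward.isDefEq.respectTransparency false
set_option linter.style.haveILetI false
set_option linter.unusedSectionVars false

universe u

open CategoryTheory CategoryTheory.Limits AlgebraicGeometry TopologicalSpace Opposite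
open Groth.Agent.RefDiv (St dv Lat HasDiv)

noncomputable section

namespace Groth.Agent.CurvePic

open Groth.Agent.CurveOmega (normal instNoeth coheight_eq_one isClosed_of_coheight pt isClosed_pt coheight_pt
  ord_pt exists_pt_eq dvp divOf)

attribute [local instance] CurveOmega.kAlg

variable {k : Type u} [Field k] [PerfectField k] {X : Scheme.{u}} [X.Over (Spec (CommRingCat.of k))] [IsIntegral X]
  [IsLocallyNoetherian X] [GeometricallyIrreducible (X ↘ Spec (CommRingCat.of k))]

variable (hC : Curve.IsSmoothProperCurve k X (X ↘ Spec (CommRingCat.of k)))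
include hC

/-- Every divisor is the divisor of a section of an invertible module. -/
theorem exists_inv (D : FunFld.Divisor k X.functionField) :
    ∃ (L : X.Modules) (s : St L), PicF.IsInvertible L ∧ s ≠ 0 ∧ divOf hC L s = D := by
  classical
  let E₁ : FunFld.Divisor k X.functionField := D ⊔ 0
  have h₁ : 0 ≤ E₁ := le_sup_right
  have h₂ : 0 ≤ E₁ - D := sub_nonneg.2 le_sup_left
  obtain ⟨L, s, hL, hs, hsD⟩ := exists_inv_of_effective hC E₁ h₁
  obtain ⟨M, t, hM, ht, htD⟩ := exists_inv_neg hC (E₁ - D) h₂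
  obtain ⟨w, hw, hwD⟩ := exists_divOf_tensor hC hL hM hs ht
  exact ⟨_, w, TMul.isInvertible_tensorMod hL hM, hw, by rw [hwD, hsD, htD]; abel⟩

theorem exists_ne_zero {L : X.Modules} (hL : PicF.IsInvertible L) : ∃ s : St L, s ≠ 0 := by
  obtain ⟨a, ha, -⟩ := (RefDiv.lat_of_isInvertible hL).gen
  exact ⟨a, ha⟩

/-- Rescaling a rational section. -/
theorem divOf_smul {L : X.Modules} (hL : PicF.IsInvertible L) {s : St L} (hs : s ≠ 0) {x : X.functionField}
    (hx : x ≠ 0) : divOf hC L (x • s) = divOf hC L s + FunFld.div k x := by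
  haveI := instNoeth hC
  have hxs : x • s ≠ 0 := fun h => hx (RefDiv.smul_cancel hs (h.trans (zero_smul _ s).symm))
  refine Finsupp.ext fun P => ?_
  rw [Finsupp.add_apply, divOf_apply hC hL hxs, divOf_apply hC hL hs, FunFld.div_apply (funField hC),
    ← ord_pt hC P hx, dvp, RefDiv.dv_smul (normal hC) (RefDiv.lat_of_isInvertible hL) hs hx (coheight_pt hC P)]
  exact add_comm _ _

/-- Linearly equivalent divisors give isomorphic modules. -/
theorem nonempty_iso_of_divOf {L M : X.Modules} (hL : PicF.IsInvertible L) (hM : PicF.IsInvertible M) {s : St L}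
    (hs : s ≠ 0) {t : St M} (ht : t ≠ 0) {x : X.functionField} (hx : x ≠ 0)
    (h : divOf hC M t = divOf hC L s + FunFld.div k x) : Nonempty (L ≅ M) := by
  haveI := instNoeth hC
  rw [← divOf_smul hC hL hs hx] at h
  have hxs : x • s ≠ 0 := fun h => hx (RefDiv.smul_cancel hs (h.trans (zero_smul _ s).symm))
  refine RefDiv.nonempty_iso (normal hC) (RefDiv.isRef1_of_isInvertible hL) (RefDiv.isRef1_of_isInvertible hM)
    (D := fun y => dv L y (x • s)) ⟨x • s, hxs, fun _ _ => rfl⟩ ⟨t, ht, fun y hy => ?_⟩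
  obtain ⟨P, rfl⟩ := exists_pt_eq hC (isClosed_of_coheight hC hy)
  have := congrArg (fun D : FunFld.Divisor k X.functionField => D P) h
  simp only [divOf_apply hC hM ht, divOf_apply hC hL hxs] at this
  exact this

/-- Isomorphic modules have linearly equivalent divisors. -/
theorem exists_div_of_iso {L M : X.Modules} (hL : PicF.IsInvertible L) (hM : PicF.IsInvertible M) (e : L ≅ M)
    {s : St L} (hs : s ≠ 0) {t : St M} (ht : t ≠ 0) :
    ∃ x : X.functionField, x ≠ 0 ∧ divOf hC M t = divOf hC L s + FunFld.div k x := by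
  haveI := instNoeth hC
  have lL := RefDiv.lat_of_isInvertible hL
  have lM := RefDiv.lat_of_isInvertible hM
  let t' : St M := RefHull.stalkMapₗ e.hom _ s
  have ht' : t' ≠ 0 := fun h0 => hs ((RefDiv.stalkMap_iso_bijective e _).1 (h0.trans (map_zero _).symm))
  obtain ⟨x, hx⟩ := lM.exists_smul ht' t
  have hx0 : x ≠ 0 := fun h0 => ht (by rw [← hx, h0]; exact zero_smul _ t')
  refine ⟨x, hx0, ?_⟩
  rw [← hx, divOf_smul hC hM ht' hx0]
  congr 1
  refine Finsupp.ext fun P => ?_
  rw [divOf_apply hC hM ht', divOf_apply hC hL hs]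
  exact RefDiv.dv_iso (normal hC) lL lM e hs (coheight_pt hC P)

/-- The isomorphism classes of invertible modules of degree `m`. -/
abbrev PicDeg (m : ℤ) : Type (u + 1) :=
  {c : PicF.Cl X // ∃ L : X.Modules, PicF.cl L = c ∧ PicF.IsInvertible L ∧ Curv2.deg k X L 1 = m}

/-- All degrees have as many classes as the class group has elements. -/
theorem picDeg_equiv [Finite k] (m : ℤ) :
    Nonempty (FunFld.Cl0 k X.functionField ≃ PicDeg (k := k) (X := X) m) := by
  classical
  have hK := funField hC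
  obtain ⟨D₁, hD₁⟩ := FunFld.exists_deg_one hK
  choose F sF hF hsF hFD using exists_inv hC
  have hdeg := (deg_genus hC).2.1
  let Φ : FunFld.Cl0 k X.functionField → PicDeg (k := k) (X := X) m := fun c =>
    ⟨PicF.cl (F ((c.out : (FunFld.degHom k X.functionField).ker) + m • D₁)), _, rfl, hF _, by
      rw [← hdeg _ (hF _) _ (hsF _), hFD, ← FunFld.degHom_apply, map_add, map_zsmul,
        AddMonoidHom.mem_ker.1 c.out.2, FunFld.degHom_apply, hD₁, zero_add, smul_eq_mul, mul_one]⟩
  refine ⟨Equiv.ofBijective Φ ⟨fun c c' h => ?_, ?_⟩⟩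
  · obtain ⟨e⟩ := (PicGrp.cl_eq_cl_iff _ _).1 (congrArg Subtype.val h)
    obtain ⟨x, hx, hxD⟩ := exists_div_of_iso hC (hF _) (hF _) e (hsF _) (hsF _)
    rw [hFD, hFD, add_right_comm] at hxD
    rw [← QuotientAddGroup.out_eq' c, ← QuotientAddGroup.out_eq' c', FunFld.mk_eq_mk_iff hK]
    exact ⟨x, hx, add_right_cancel hxD⟩
  · rintro ⟨_, L, rfl, hL, hLm⟩
    obtain ⟨s, hs⟩ := exists_ne_zero hC hL
    have hker : divOf hC L s - m • D₁ ∈ (FunFld.degHom k X.functionField).ker := by
      rw [AddMonoidHom.mem_ker, map_sub, map_zsmul, FunFld.degHom_apply, FunFld.degHom_apply, hD₁,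
        hdeg L hL s hs, hLm, smul_eq_mul, mul_one, sub_self]
    let c : FunFld.Cl0 k X.functionField := QuotientAddGroup.mk ⟨_, hker⟩
    refine ⟨c, Subtype.ext ((PicGrp.cl_eq_cl_iff _ _).2 ?_)⟩
    obtain ⟨x, hx, hxD⟩ := (FunFld.mk_eq_mk_iff hK (A := c.out) (B := ⟨_, hker⟩)).1
      (QuotientAddGroup.out_eq' c)
    refine nonempty_iso_of_divOf hC (hF _) hL (hsF _) hs hx ?_
    rw [hFD, add_right_comm, ← hxD]
    exact (sub_add_cancel _ _).symm

theorem card_picDeg [Finite k] (m : ℤ) :
    Finite (PicDeg (k := k) (X := X) m) ∧ Nonempty (PicDeg (k := k) (X := X) m) ∧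
      Nat.card (PicDeg (k := k) (X := X) m) = FunFld.classNum k X.functionField := by
  haveI := FunFld.finite_classGroup (funField hC)
  obtain ⟨e⟩ := picDeg_equiv hC m
  exact ⟨Finite.of_equiv _ e, ⟨e 0⟩, (Nat.card_congr e).symm⟩

end Groth.Agent.CurvePic
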