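import Groth.Agent.CurvePic.Pic
import Groth.Agent.FunFld.ZetaExp
import Groth.Agent.FunFld.ZetaFE
import Groth.Agent.ZetaLib.Basic
import Groth.Agent.CurveFF.Places
import Groth.Agent.WeilLib.Count
import Mathlib

/-!
The zeta function of a curve over a finite field is that of its function field.
-/

set_option autoImplicit false
set_option backward.isDefEq.respectTransparency false
set_option linter.style.haveILetI false
set_option linter.unusedSectionVars false

universe u

open CategoryTheory CategoryTheory.Limits AlgebraicGeometry PowerSeries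

noncomputable section

namespace Groth.Agent.CurvePic

attribute [local instance] CurveOmega.kAlg

variable {k : Type u} [Field k] [Finite k] [PerfectField k] {X : Scheme.{u}} [X.Over (Spec (CommRingCat.of k))]
  [IsIntegral X] [IsLocallyNoetherian X] [GeometricallyIrreducible (X ↘ Spec (CommRingCat.of k))]

variable (hC : Curve.IsSmoothProperCurve k X (X ↘ Spec (CommRingCat.of k)))
include hC

theorem residueDegree_pt (c : {x : X // IsClosed ({x} : Set X)}) :
    EGA4loc.residueDegree (X ↘ Spec (CommRingCat.of k)) c.1 = (CurveFF.pointEquiv hC c).deg := by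
  rw [WeilLib.residueDegree_eq_finrank]
  exact (CurveFF.deg_placeOf hC c).symm

theorem nPts_eq_countN {m : ℕ} (hm : m ≠ 0) :
    Zeta.nPts (X ↘ Spec (CommRingCat.of k)) m = FunFld.countN (funField hC) m := by
  classical
  have hcount : ∀ e, Zeta.degCount (X ↘ Spec (CommRingCat.of k)) e =
      Nat.card {P : _root_.FunFld.Place k X.functionField // P.deg = e} := fun e => by
    rw [Zeta.degCount]
    exact Nat.card_congr ((Equiv.subtypeSubtypeEquivSubtypeInter _ _).symm.trans
      ((CurveFF.pointEquiv hC).subtypeEquiv fun c => by rw [residueDegree_pt hC c]))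
  rw [Zeta.nPts, FunFld.countN, ← Finset.sum_filter]
  rw [← Finset.sum_fiberwise_of_maps_to (t := m.divisors) (g := fun P : _root_.FunFld.Place k X.functionField => P.deg)
    (fun P hP => Nat.mem_divisors.2 ⟨(Finset.mem_filter.1 hP).2, hm⟩)]
  refine Finset.sum_congr rfl fun e he => ?_
  rw [Finset.sum_congr rfl (g := fun _ => e) fun P hP => (Finset.mem_filter.1 hP).2, Finset.sum_const, smul_eq_mul,
    mul_comm, hcount, ← Nat.subtype_card]
  intro P
  simp only [Finset.mem_filter, Set.Finite.mem_toFinset, Set.mem_setOf_eq]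
  exact ⟨fun h => h.2, fun h => ⟨⟨h ▸ Nat.le_of_dvd (Nat.pos_of_ne_zero hm) (Nat.mem_divisors.1 he).1,
    h ▸ (Nat.mem_divisors.1 he).1⟩, h⟩⟩

/-- `Z(X, t)` is the zeta series of the function field. -/
theorem zetaFun_eq : Zeta.zetaFun (X ↘ Spec (CommRingCat.of k)) =
    PowerSeries.map (Int.castRingHom ℚ) (_root_.FunFld.zetaZ k X.functionField) := by
  obtain ⟨h1, h2⟩ := ZetaLib.logD_zetaFun (X ↘ Spec (CommRingCat.of k))
  have hK := funField hC
  set N : ℚ⟦X⟧ := PowerSeries.mk fun j => if j = 0 then 0 else (FunFld.countN hK j : ℚ) with hN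
  refine FunFld.eq_of_thetaS (N := N) ?_ ?_ ?_ ?_
  · have hX : N = PowerSeries.X * PowerSeries.mk fun m => (Zeta.nPts (X ↘ Spec (CommRingCat.of k)) (m + 1) : ℚ) := by
      ext n
      rcases n with _ | n
      · simp [hN]
      · rw [PowerSeries.coeff_succ_X_mul, hN, PowerSeries.coeff_mk, PowerSeries.coeff_mk, if_neg n.succ_ne_zero,
          nPts_eq_countN hC n.succ_ne_zero]
    rw [FunFld.thetaS, hX, mul_left_comm]
    exact congrArg (PowerSeries.X * ·) h1
  · have e := congrArg (PowerSeries.map (Int.castRingHom ℚ)) (FunFld.thetaS_zetaZ hK)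
    rw [FunFld.map_thetaS, map_mul] at e
    rw [e]
    congr 1
    ext n
    rcases n with _ | n <;> simp [hN]
  · simp [hN]
  · rw [h2, ← PowerSeries.coeff_zero_eq_constantCoeff_apply, PowerSeries.coeff_map,
      PowerSeries.coeff_zero_eq_constantCoeff_apply, FunFld.constantCoeff_zetaZ hK, map_one]

/-- Rationality with the class number as value of the numerator at `1`. -/
theorem exists_numer :
    ∃ P : Polynomial ℤ, P.natDegree ≤ 2 * Curv2.genus k X ∧ P.coeff 0 = 1 ∧
      P.eval 1 = Nat.card (PicDeg (k := k) (X := X) 0) ∧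
      Zeta.zetaFun (X ↘ Spec (CommRingCat.of k)) *
          ((1 - PowerSeries.X) * (1 - PowerSeries.C (Nat.card k : ℚ) * PowerSeries.X)) =
        ((P.map (Int.castRingHom ℚ) : Polynomial ℚ) : PowerSeries ℚ) := by
  have hK := funField hC
  obtain ⟨p, hp⟩ := FunFld.numerZ_polynomial hK
  refine ⟨p, ?_, ?_, ?_, ?_⟩
  · rw [(deg_genus hC).1, Polynomial.natDegree_le_iff_coeff_eq_zero]
    intro n hn
    rw [← Polynomial.coeff_coe, hp]
    exact (FunFld.zeta_numerator hK).1 n hn
  · rw [← Polynomial.coeff_coe, hp, PowerSeries.coeff_zero_eq_constantCoeff_apply, _root_.FunFld.numerZ, map_mul,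
      FunFld.constantCoeff_zetaZ hK]
    simp
  · rw [FunFld.eval_one_numerZ hK p hp, (card_picDeg hC 0).2.2]
  · rw [zetaFun_eq hC, Polynomial.polynomial_map_coe, hp, _root_.FunFld.numerZ, map_mul, map_mul, map_sub, map_sub,
      map_one, map_mul, PowerSeries.map_X, PowerSeries.map_C]
    simp only [map_natCast]
    ring

end Groth.Agent.CurvePic
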